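import Cfsg.Agent.Lib.MaxCl.SU3.C7.Unit
import Cfsg.Agent.Lib.MaxCl.SU3.Spread
import Cfsg.Agent.Lib.MaxCl.SU4.Basic

/-!
# The normaliser of an extraspecial group of order 27 is maximal in `SU 3 p`
-/

set_option autoImplicit false
set_option linter.unusedSectionVars false

namespace Cfsg.Agent.MaxCl.SU3.C7

open Cfsg.Agent.MaxCl Cfsg.Agent.MaxCl.Unit Cfsg.Agent.MaxCl.SLThree.C6
open Matrix

variable {F : Type*} [Field F] [Fintype F] {p : ℕ} {σ : F ≃+* F} (hσ : ∀ x, σ x = x ^ p)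
  (hU : Cfsg.Geo.IsUnitaryForm σ (Cfsg.hermForm 3 F p)) {ω : F} (hω : IsPrimitiveRoot ω 3)
include hσ hU hω

/-- A change of basis carrying the standard group into the similarity group is a similarity. -/
theorem exists_scalar (hp3 : p % 3 = 2) {P : GL (Fin 3) F}
    (hexp : ∀ g ∈ stdR hω, g ^ 3 = 1)
    (hsim : ∀ g ∈ stdR hω, P * g * P⁻¹ ∈ Cfsg.Geo.similarityGroup (Cfsg.hermForm 3 F p)) :
    ∃ d : F, d ≠ 0 ∧ ∀ u v, Cfsg.hermForm 3 F p (act P u) (act P v) = d * Cfsg.hermForm 3 F p u v := by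
  have hh : ∀ u v, Cfsg.hermForm 3 F p u v = u 0 * σ (v 0) + u 1 * σ (v 1) + u 2 * σ (v 2) := form_eq hσ
  generalize Cfsg.hermForm 3 F p = f at hU hsim hh ⊢
  obtain ⟨e₀, he₀⟩ : ∃ e : Fin 3 → F, f e e = 1 := ⟨![1, 0, 0], by simp [hh]⟩
  -- no multipliers
  have hiso : ∀ g ∈ stdR hω, ∀ u v, f (act P (act g u)) (act P (act g v)) = f (act P u) (act P v) := by
    intro g hg
    obtain ⟨c, hc⟩ := hsim g hg
    have hc' : ∀ u v, f (act P (act g u)) (act P (act g v)) = (c : F) * f (act P u) (act P v) := fun u v => by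
      have h := hc (act P u) (act P v)
      rw [← act_apply, ← act_apply] at h
      simpa [act_mul, act_inv_act] using h
    have hself : σ (c : F) = (c : F) := by
      have h := herm' hU (act P (act g (act P⁻¹ e₀))) (act P (act g (act P⁻¹ e₀)))
      rwa [hc', act_act_inv, he₀, mul_one] at h
    have h3 : (c : F) ^ 3 = 1 := by
      have e : act g (act g (act g (act P⁻¹ e₀))) = act P⁻¹ e₀ := by
        rw [← act_mul, ← act_mul, show g * g * g = 1 by rw [← hexp g hg, pow_three, mul_assoc],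
          act_one]
      have h := hc' (act g (act g (act P⁻¹ e₀))) (act g (act g (act P⁻¹ e₀)))
      rw [e, hc', hc', act_act_inv, he₀] at h
      linear_combination -h
    have h2 : (c : F) ^ 2 = (c : F) := by
      rw [hσ, pow_eq_pow_mod p h3, hp3] at hself
      exact hself
    have h1 : (c : F) = 1 := mul_left_cancel₀ c.ne_zero (by rw [← pow_two, h2, mul_one])
    intro u v
    rw [hc', h1, one_mul]
  have hω2 : σ ω = ω ^ 2 := by rw [hσ, pow_eq_pow_mod p hω.pow_eq_one, hp3]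
  have hωne : ∀ i j : Fin 3, i ≠ j → ω ^ (i : ℕ) * σ (ω ^ (j : ℕ)) ≠ 1 := by
    intro i j hij h
    rw [map_pow, hω2, ← pow_mul, ← pow_add, hω.pow_eq_one_iff_dvd] at h
    fin_cases i <;> fin_cases j <;> simp at h hij ⊢
  have hXe : ∀ i : Fin 3, act (gX hω) (Pi.single i 1) = ω ^ (i : ℕ) • (Pi.single i 1 : Fin 3 → F) := by
    intro i
    funext k
    fin_cases i <;> fin_cases k <;> simp [act_apply, X]
  have hYe : ∀ i : Fin 3, act (gY F) (Pi.single i 1) = (Pi.single (i + 1) 1 : Fin 3 → F) := by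
    intro i
    funext k
    fin_cases i <;> fin_cases k <;> simp [act_apply, Y]
  obtain ⟨G, hG⟩ : ∃ G : Fin 3 → Fin 3 → F,
      ∀ i j, G i j = f (act P (Pi.single i 1)) (act P (Pi.single j 1)) := ⟨_, fun _ _ => rfl⟩
  have hoff : ∀ i j, i ≠ j → G i j = 0 := by
    intro i j hij
    have h := hiso _ (gX_mem hω) (Pi.single i 1) (Pi.single j 1)
    rw [hXe, hXe, map_smul, map_smul, smul_left hU, smul_right hU, ← hG, ← mul_assoc] at h
    exact (mul_left_eq_self₀.1 h).resolve_left (hωne i j hij)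
  have hdiag : ∀ i : Fin 3, G (i + 1) (i + 1) = G i i := fun i => by
    rw [hG, hG, ← hYe, hiso _ (gY_mem hω)]
  have key : ∀ u v, f (act P u) (act P v) = G 0 0 * f u v := by
    intro u v
    have hu : ∀ w : Fin 3 → F, w = w 0 • (Pi.single 0 1 : Fin 3 → F) + w 1 • Pi.single 1 1 + w 2 • Pi.single 2 1 :=
      fun w => by funext k; fin_cases k <;> simp
    conv_lhs => rw [hu u, hu v]
    simp only [map_add, map_smul, add_left hU, add_right hU, smul_left hU, smul_right hU, ← hG,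
      hoff 0 1 (by decide), hoff 0 2 (by decide), hoff 1 0 (by decide), hoff 1 2 (by decide),
      hoff 2 0 (by decide), hoff 2 1 (by decide)]
    rw [show G 1 1 = G 0 0 from hdiag 0, show G 2 2 = G 0 0 from (hdiag 1).trans (hdiag 0), hh]
    ring
  refine ⟨G 0 0, fun h0 => ?_, key⟩
  have := key (act P⁻¹ e₀) (act P⁻¹ e₀)
  rw [act_act_inv, he₀, h0, zero_mul] at this
  exact one_ne_zero this

/-- The special unitary group does not normalise the standard group. -/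
theorem not_su_le_normalizer (h2 : (2 : F) ≠ 0) :
    ¬ uiso (Cfsg.hermForm 3 F p) ⊓ Cfsg.Geo.specialLinear (Fin 3) F ≤ Cfsg.Geo.subgroupNormalizer (stdR hω) := by
  intro hle
  have hh : ∀ u v, Cfsg.hermForm 3 F p u v = u 0 * σ (v 0) + u 1 * σ (v 1) + u 2 * σ (v 2) := form_eq hσ
  generalize Cfsg.hermForm 3 F p = f at hU hle hh
  obtain ⟨c, hc0, hc⟩ := exists_skew hU.ne_refl hU.involutive
  obtain ⟨η, hη⟩ := exists_norm hU.involutive hU.ne_refl (-1 : F) (by simp)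
  obtain ⟨v, hv⟩ : ∃ v : Fin 3 → F, v = ![1, η, 0] := ⟨_, rfl⟩
  have hvv : f v v = 0 := by simp [hh, hv, hη]
  have ht := hle ⟨utv_mem hU hvv hc, det_ptv hU (by rw [smul_right hU, hvv, mul_zero])⟩
  obtain ⟨t, htdef⟩ : ∃ t, t = utv hU v c := ⟨_, rfl⟩
  rw [← htdef, Cfsg.Geo.subgroupNormalizer, Subgroup.mem_normalizer_iff] at ht
  have hrel : ∀ g ∈ stdR hω, ∃ a : F, a ≠ 0 ∧
      X ω * (g : Matrix (Fin 3) (Fin 3) F) = a • ((g : Matrix (Fin 3) (Fin 3) F) * X ω) := by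
    intro g hg
    induction hg using Subgroup.closure_induction with
    | mem g hg =>
      rcases hg with rfl | rfl
      · exact ⟨1, one_ne_zero, by rw [coe_gX, one_smul]⟩
      · exact ⟨ω, hω.ne_zero (by norm_num), by rw [coe_gY, X_Y hω]⟩
    | one => exact ⟨1, one_ne_zero, by simp⟩
    | mul g g' _ _ ih ih' =>
      obtain ⟨a, ha, e⟩ := ih
      obtain ⟨b, hb, e'⟩ := ih'
      refine ⟨a * b, mul_ne_zero ha hb, ?_⟩
      rw [Units.val_mul, ← mul_assoc, e, smul_mul_assoc, mul_assoc, e', mul_smul_comm, smul_smul, mul_assoc]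
    | inv g _ ih =>
      obtain ⟨a, ha, e⟩ := ih
      refine ⟨a⁻¹, inv_ne_zero ha, ?_⟩
      have h := congrArg (fun M => ((g⁻¹ : GL (Fin 3) F) : Matrix (Fin 3) (Fin 3) F) * M *
        ((g⁻¹ : GL (Fin 3) F) : Matrix (Fin 3) (Fin 3) F)) e
      simp only [mul_assoc, Units.mul_inv, mul_one, mul_smul_comm, smul_mul_assoc, Units.inv_mul_cancel_left] at h
      rw [h, inv_smul_smul₀ ha]
  obtain ⟨a, -, e⟩ := hrel _ ((ht _).1 (gX_mem hω))
  obtain ⟨G, hG⟩ : ∃ G : Fin 3 → Fin 3 → F, ∀ i j,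
      G i j = ((t * gX hω * t⁻¹ : GL (Fin 3) F) : Matrix (Fin 3) (Fin 3) F) i j := ⟨_, fun _ _ => rfl⟩
  have hti : t⁻¹ = utv hU v (-c) := by
    refine inv_eq_of_mul_eq_one_right (gl_ext fun x => ?_)
    rw [htdef, act_one, act_mul, act_utv hU hvv (-c), act_utv hU hvv c, add_left hU, smul_left hU, hvv]
    module
  have hcol : ∀ j i : Fin 3, G i j = act t (act (gX hω) (act t⁻¹ (Pi.single j 1))) i := by
    intro j i
    rw [hG, ← act_mul, ← act_mul, act_apply, Matrix.mulVec_single_one, mul_assoc]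
    rfl
  have hG22 : G 2 2 = ω ^ 2 := by
    rw [hcol, hti, htdef]
    simp only [act_utv hU hvv]
    simp [hh, act_apply (gX hω), X, hv, Matrix.vecHead, Matrix.vecTail]
  have hG01 : G 0 1 = (1 + c) * (c * σ η * (ω - 1)) := by
    rw [hcol, hti, htdef]
    simp only [act_utv hU hvv]
    simp [hh, act_apply (gX hω), X, hv, Matrix.vecHead, Matrix.vecTail]
    grind
  generalize ((t * gX hω * t⁻¹ : GL (Fin 3) F) : Matrix (Fin 3) (Fin 3) F) = Mt at e hG
  have e22 := congrFun (congrFun e 2) 2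
  have e01 := congrFun (congrFun e 0) 1
  simp [X, Matrix.mul_apply, Fin.sum_univ_three] at e22 e01
  rw [← hG] at e22 e01
  rw [hG22] at e22
  rw [hG01] at e01
  have hω0 : ω ≠ 0 := hω.ne_zero (by norm_num)
  have ha1 : a = 1 := by grind
  subst ha1
  have hc1 : 1 + c ≠ 0 := fun h => h2 (by
    have hcv : c = -1 := by linear_combination h
    rw [hcv, map_neg, map_one] at hc
    linear_combination -hc)
  have hη0 : σ η ≠ 0 := fun h => by simp [h] at hη
  have hω1 : ω - 1 ≠ 0 := sub_ne_zero.2 (hω.ne_one (by norm_num))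
  exact mul_ne_zero hc1 (mul_ne_zero (mul_ne_zero hc0 hη0) hω1)
    ((mul_eq_zero.1 (show (ω - 1) * ((1 + c) * (c * σ η * (ω - 1))) = 0 by linear_combination -e01)).resolve_left
      hω1)

end Cfsg.Agent.MaxCl.SU3.C7

namespace Cfsg.Agent.MaxCl.SU3

open Cfsg.Agent.MaxCl Cfsg.Agent.MaxCl.Unit Cfsg.Agent.MaxCl.SLThree.C6
open Matrix

/-- The normaliser of an extraspecial group of order 27 is maximal in `SU 3 p` for `p ≡ 2 mod 3`, `p ≥ 11`. -/
theorem c7_maximal {F : Type*} [Field F] [Fintype F] (q : ℕ) (hF : Fintype.card F = q ^ 2) (hq : 3 ≤ q) :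
    ∀ (p : ℕ) (R : Subgroup (Matrix.GeneralLinearGroup (Fin 3) F)), p.Prime → q = p → p % 3 = 2 → 11 ≤ p →
      Cfsg.Geo.IsSymplecticTypeGroup 3 R → Cfsg.Geo.ActsAbsolutelyIrreducibly (Cfsg.Geo.matrixSet R) →
      R ≤ Cfsg.Geo.similarityGroup (Cfsg.hermForm 3 F q) → Nat.card R = 27 → Nat.card (Subgroup.center R) = 3 →
      Cfsg.Geo.IsMaximalIn (Cfsg.GU 3 F q ⊓ Cfsg.Geo.specialLinear (Fin 3) F)
        (Cfsg.Geo.subgroupNormalizer R ⊓ (Cfsg.GU 3 F q ⊓ Cfsg.Geo.specialLinear (Fin 3) F)) := by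
  intro p R hp hqp hp3 h11 hR habs hsim _ _
  subst hqp
  haveI : Fact q.Prime := ⟨hp⟩
  haveI : CharP F q := charP_of_card_eq_prime_pow hF
  obtain ⟨σ, hσ, hU⟩ := hermForm_isUnitary 3 q hF
  obtain ⟨ω, hω, P, hP⟩ := exists_stdR hR habs
  have hω2 : σ ω = ω ^ 2 := by rw [hσ, pow_eq_pow_mod q hω.pow_eq_one, hp3]
  have hexp : ∀ g ∈ stdR hω, g ^ 3 = 1 := by
    intro g hg
    have hgR : MulAut.conj P g ∈ R := hP ▸ ⟨g, hg, rfl⟩
    have h := Monoid.pow_exponent_eq_one (⟨_, hgR⟩ : R)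
    rw [hR.exponent_eq] at h
    have h' : (MulAut.conj P g) ^ 3 = 1 := congrArg Subtype.val h
    rwa [← map_pow, map_eq_one_iff _ (MulAut.conj P).injective] at h'
  obtain ⟨d, hd, hPd⟩ := C7.exists_scalar hσ hU hω hp3 (P := P) hexp fun g hg => hsim (hP ▸ ⟨g, hg, rfl⟩)
  change Cfsg.Geo.IsMaximalIn (uiso (Cfsg.hermForm 3 F q) ⊓ _) (_ ⊓ (uiso (Cfsg.hermForm 3 F q) ⊓ _))
  have hgens := C7.gens_mem_uiso hσ hω hω2
  have hnsu := C7.not_su_le_normalizer hσ hU hω (Ring.two_ne_zero (by rw [ringChar.eq F q]; omega))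
  have hgen := fun M => su_le_of_utv_three q hF hq hσ hU M
  generalize Cfsg.hermForm 3 F q = f at hU hPd hgens hnsu hgen ⊢
  obtain ⟨c, hc⟩ : ∃ c : GL (Fin 3) F ≃* GL (Fin 3) F, c = MulAut.conj P := ⟨_, rfl⟩
  have hcf : ∀ g, c g ∈ uiso f ↔ g ∈ uiso f := fun g => by
    simp only [mem_uiso, hc, MulAut.conj_apply, act_mul]
    refine ⟨fun h u v => ?_, fun h u v => ?_⟩
    · have h1 := h (act P u) (act P v)
      rw [act_inv_act, act_inv_act, hPd, hPd] at h1
      exact mul_left_cancel₀ hd h1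
    · rw [hPd, h, ← hPd, act_act_inv, act_act_inv]
  have hN : Cfsg.Geo.subgroupNormalizer R = (Cfsg.Geo.subgroupNormalizer (stdR hω)).map c.toMonoidHom := by
    rw [Cfsg.Geo.subgroupNormalizer, Cfsg.Geo.subgroupNormalizer, Subgroup.map_equiv_normalizer_eq, hP, hc]
  have hS : ∀ g, c g ∈ uiso f ⊓ Cfsg.Geo.specialLinear (Fin 3) F ↔
      g ∈ uiso f ⊓ Cfsg.Geo.specialLinear (Fin 3) F := fun g => by
    rw [Subgroup.mem_inf, Subgroup.mem_inf, hcf, Cfsg.Geo.specialLinear, MonoidHom.mem_ker, MonoidHom.mem_ker, hc,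
      MulAut.conj_apply, map_mul, map_mul, map_inv, mul_inv_cancel_comm]
  have hH : ∀ g, c g ∈ Cfsg.Geo.subgroupNormalizer R ⊓ (uiso f ⊓ Cfsg.Geo.specialLinear (Fin 3) F) ↔
      g ∈ Cfsg.Geo.subgroupNormalizer (stdR hω) ∧ g ∈ uiso f ⊓ Cfsg.Geo.specialLinear (Fin 3) F := fun g => by
    rw [Subgroup.mem_inf, hS, hN]
    exact and_congr_left fun _ => Subgroup.mem_map_iff_mem (f := c.toMonoidHom) c.injective
  refine ⟨lt_of_le_of_ne inf_le_right fun e => hnsu fun g hg => ?_, fun M h1 h2 => ?_⟩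
  · exact ((hH g).1 (e.symm ▸ (hS g).2 hg)).1
  obtain ⟨M', hM'⟩ : ∃ M' : Subgroup (GL (Fin 3) F), M' = M.comap c.toMonoidHom := ⟨_, rfl⟩
  have hle : ∀ g, g ∈ Cfsg.Geo.subgroupNormalizer (stdR hω) → g ∈ uiso f →
      g ∈ Cfsg.Geo.specialLinear (Fin 3) F → g ∈ M' := fun g h h' h'' => by
    rw [hM']; exact h1 ((hH g).2 ⟨h, h', h''⟩)
  have hsu : M' ≤ uiso f ⊓ Cfsg.Geo.specialLinear (Fin 3) F := fun g hg => by
    rw [hM'] at hg; exact (hS g).1 (h2 hg)
  obtain ⟨nX, nY, nA, nB⟩ := gens_normalize hω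
  obtain ⟨uX, uY, uA, uB⟩ := hgens
  have hnat : ∀ a : F, σ a = a → ∃ n : ℕ, a = n := fun a ha => by
    have h' : a ∈ (⊥ : _root_.Subfield F) := (_root_.Subfield.mem_bot_iff_pow_eq_self F q).2 (by rwa [← hσ])
    rw [← ZMod.fieldRange_castHom_eq_bot q] at h'
    obtain ⟨z, hz⟩ := h'
    exact ⟨z.val, by rw [← hz, ← map_natCast (ZMod.castHom (dvd_refl q) F), ZMod.natCast_zmod_val]⟩
  by_cases hno : NoTv M'
  · left
    refine le_antisymm (fun g hg => ?_) h1
    obtain ⟨u, rfl⟩ := c.surjective g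
    have hu : u ∈ M' := by rw [hM']; exact hg
    have hset : Setup hω M' q :=
      { prime := hp
        five := by omega
        charP := inferInstance
        sl := hsu.trans inf_le_right
        mX := hle _ nX uX (gX_mem_SL hω)
        mY := hle _ nY uY gY_mem_SL
        mA := hle _ nA uA (gA_mem_SL hω)
        mB := hle _ nB uB (gB_mem_SL hω)
        noTv := hno
        sq := not_sq_dvd hp (by omega) hno fun x hx y hy a b e3 e2 e =>
          hnat a (C7.fixed_coeff hU (hsu hx).1 (hsu hy).1 e3 e2 e) }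
    exact (hH u).2 ⟨hset.normalizes hu, hsu hu⟩
  · right
    simp only [NoTv, not_forall] at hno
    obtain ⟨g, hg, hg2, hg1⟩ := hno
    obtain ⟨φ, v, hφ, hv, h0, rfl⟩ := exists_tv_of_sub_sq hg2 hg1
    obtain ⟨c₀, hc0, hcs, hvv, he⟩ := C7.tv_eq_utv hU hφ hv h0 (hsu hg).1
    have hroot : RootIn hU M' v := by
      refine ⟨hvv, fun c hcc => ?_⟩
      obtain ⟨n, hn⟩ := hnat (c / c₀) (by
        rw [map_div₀, eq_neg_of_add_eq_zero_right hcc, eq_neg_of_add_eq_zero_right hcs, neg_div_neg_eq])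
      have h := tv_nat_mem h0 hg n
      rwa [show tv φ ((n : F) • v) = utv hU v c from gl_ext fun x => by
        have e1 := congrArg (fun g : GL (Fin 3) F => act g x) he
        simp only [act_tv h0, act_utv hU hvv, add_right_inj] at e1
        rw [act_tv (by simp [h0]), act_utv hU hvv, smul_smul, mul_comm (φ x), ← smul_smul, e1, smul_smul, ← hn,
          ← mul_assoc, div_mul_cancel₀ _ hc0]] at h
    have hirr : ∀ W : Submodule F (Fin 3 → F), (∀ g ∈ M', ∀ x ∈ W, act g x ∈ W) → W = ⊥ ∨ W = ⊤ :=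
      fun W hW => stdR_irreducible hω W
        (fun x hx => by simpa [act_apply] using hW _ (hle _ nX uX (gX_mem_SL hω)) x hx)
        (fun x hx => by simpa [act_apply] using hW _ (hle _ nY uY gY_mem_SL) x hx)
    have hall := hgen M' fun u c hu hcu =>
      (rootIn_all_three hU (Fintype.card_fin 3) (hsu.trans inf_le_left) hirr hv hroot u hu).2 c hcu
    refine le_antisymm h2 fun g hg => ?_
    obtain ⟨u, rfl⟩ := c.surjective g
    have := hall ((hS u).1 hg)
    rwa [hM'] at this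

end Cfsg.Agent.MaxCl.SU3
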