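import Cfsg.Agent.Lib.MaxCl.SU3.Gen
import Cfsg.Agent.Lib.MaxCl.SLThree.C6.Sylow
import Cfsg.Agent.Lib.MaxCl.SLThree.C6.Main

/-!
# The standard group of order 27 and the standard Hermitian form
-/

set_option autoImplicit false
set_option linter.unusedSectionVars false

namespace Cfsg.Agent.MaxCl.SU3.C7

open Cfsg.Agent.MaxCl Cfsg.Agent.MaxCl.Unit Cfsg.Agent.MaxCl.SLThree.C6
open Matrix

variable {F : Type*} [Field F] [Fintype F] {σ : F ≃+* F} {q : ℕ} (hσ : ∀ x, σ x = x ^ q)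

include hσ

theorem form_eq (u v : Fin 3 → F) :
    Cfsg.hermForm 3 F q u v = u 0 * σ (v 0) + u 1 * σ (v 1) + u 2 * σ (v 2) := by
  simp [Cfsg.hermForm, Fin.sum_univ_three, hσ]

variable {ω : F} (hω : IsPrimitiveRoot ω 3) (hω2 : σ ω = ω ^ 2)
include hω hω2

theorem gens_mem_uiso :
    gX hω ∈ uiso (Cfsg.hermForm 3 F q) ∧ gY F ∈ uiso (Cfsg.hermForm 3 F q) ∧
      gA hω ∈ uiso (Cfsg.hermForm 3 F q) ∧ gB hω ∈ uiso (Cfsg.hermForm 3 F q) := by
  have h3 := cube hω
  have hs := sum_eq_zero hω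
  obtain ⟨k, hk⟩ : ∃ k, k = (ω - ω ^ 2)⁻¹ := ⟨_, rfl⟩
  have hk2 : k * k * (-3) = 1 := by
    have e : (ω - ω ^ 2) * (ω - ω ^ 2) = -3 := by grind
    rw [hk, ← e, mul_comm, ← mul_inv, mul_inv_cancel₀ (mul_ne_zero (sub_sq_ne hω) (sub_sq_ne hω))]
  have hσk : σ k = -k := by
    rw [hk, map_inv₀, map_sub, map_pow, hω2, ← inv_neg, neg_sub]
    congr 1
    grind
  refine ⟨?_, ?_, ?_, ?_⟩ <;> rw [mem_uiso] <;> intro u v <;>
    simp [form_eq hσ, act_apply, X, Y, A, B, ← hk, Matrix.mulVec, dotProduct, Fin.sum_univ_three,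
      map_add, map_mul, map_neg, map_pow, hω2, hσk] <;> grind

end Cfsg.Agent.MaxCl.SU3.C7

namespace Cfsg.Agent.MaxCl.SU3.C7

open Cfsg.Agent.MaxCl Cfsg.Agent.MaxCl.Unit
open Matrix

variable {ι : Type} [Fintype ι] [DecidableEq ι] {F : Type*} [Field F] [Fintype F] {σ : F ≃+* F}
  {f : (ι → F) → (ι → F) → F} (hU : Cfsg.Geo.IsUnitaryForm σ f)
include hU

/-- A transvection preserving the form is a unitary transvection. -/
theorem tv_eq_utv {φ : (ι → F) →ₗ[F] F} {v : ι → F} (hφ : φ ≠ 0) (hv : v ≠ 0) (h0 : φ v = 0)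
    (hg : tv φ v ∈ uiso f) : ∃ c, c ≠ 0 ∧ c + σ c = 0 ∧ f v v = 0 ∧ tv φ v = utv hU v c := by
  obtain ⟨r, hr⟩ := LinearMap.surjective hφ 1
  have key : ∀ x y, φ x * f v y + σ (φ y) * f x v + φ x * σ (φ y) * f v v = 0 := by
    intro x y
    have h := mem_uiso.1 hg x y
    simp only [act_tv h0, add_left hU, add_right hU, smul_left hU, smul_right hU] at h
    linear_combination h
  have hker : ∀ y, φ y = 0 → f v y = 0 := fun y hy => by
    have h := key r y
    simpa [hr, hy] using h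
  have hvv : f v v = 0 := hker v h0
  have hlin : ∀ x, f x v = φ x * f r v := fun x => by
    have h := eq_zero_symm hU (hker (x - φ x • r) (by simp [hr]))
    rw [sub_left hU, smul_left hU, sub_eq_zero] at h
    exact h
  have hk : f r v ≠ 0 := fun h => by
    obtain ⟨z, hz⟩ := (hU.nondegenerate v hv).1
    exact hz (by rw [hlin z, h, mul_zero])
  refine ⟨(f r v)⁻¹, inv_ne_zero hk, ?_, hvv, gl_ext fun x => ?_⟩
  · have h := key r r
    rw [hr, map_one, one_mul, one_mul, hvv, mul_zero, add_zero, ← herm' hU r v] at h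
    rw [map_inv₀, eq_neg_of_add_eq_zero_left h, inv_neg, add_neg_cancel]
  · rw [act_tv h0, act_utv hU hvv, hlin x, mul_comm (φ x), ← mul_assoc, inv_mul_cancel₀ hk, one_mul]

/-- A unipotent element centralising a regular unipotent isometry has fixed first coefficient. -/
theorem fixed_coeff {x y : GL ι F} (hx : x ∈ uiso f) (hy : y ∈ uiso f) {a b : F}
    (h3 : ((x : Matrix ι ι F) - 1) ^ 3 = 0) (h2 : ((x : Matrix ι ι F) - 1) ^ 2 ≠ 0)
    (e : (y : Matrix ι ι F) = 1 + a • ((x : Matrix ι ι F) - 1) + b • ((x : Matrix ι ι F) - 1) ^ 2) :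
    σ a = a := by
  obtain ⟨N, hN⟩ : ∃ N, N = (x : Matrix ι ι F) - 1 := ⟨_, rfl⟩
  rw [← hN] at h3 h2 e
  have hx' : ∀ u, act x u = u + N *ᵥ u := fun u => by
    rw [act_apply, hN, sub_mulVec, one_mulVec, add_sub_cancel]
  have hy' : ∀ u, act y u = u + a • (N *ᵥ u) + b • (N *ᵥ (N *ᵥ u)) := fun u => by
    rw [act_apply, e, add_mulVec, add_mulVec, one_mulVec, smul_mulVec, smul_mulVec, pow_two, ← mulVec_mulVec]
  have E : ∀ u v, f (N *ᵥ u) v + f u (N *ᵥ v) + f (N *ᵥ u) (N *ᵥ v) = 0 := fun u v => by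
    have h := mem_uiso.1 hx u v
    simp only [hx', add_left hU, add_right hU] at h
    linear_combination h
  have hN3 : ∀ u, N *ᵥ (N *ᵥ (N *ᵥ u)) = 0 := fun u => by
    rw [mulVec_mulVec, mulVec_mulVec, show N * N * N = 0 by rw [← h3, pow_three, mul_assoc], zero_mulVec]
  have perp : ∀ u v, f (N *ᵥ u) (N *ᵥ (N *ᵥ v)) = 0 := fun u v => by
    have h := E u (N *ᵥ (N *ᵥ v))
    simpa only [hN3, zero_right hU, add_zero] using h
  obtain ⟨v, hv⟩ : ∃ v, f v (N *ᵥ (N *ᵥ v)) ≠ 0 := by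
    by_contra hno
    push Not at hno
    obtain ⟨k, hk⟩ := exists_moved hU.ne_refl
    obtain ⟨v, hv⟩ : ∃ v, N *ᵥ (N *ᵥ v) ≠ 0 := by
      by_contra h
      push Not at h
      exact h2 (Matrix.toLin'.injective (LinearMap.ext fun w => by
        rw [Matrix.toLin'_apply, pow_two, ← mulVec_mulVec, h, map_zero]; rfl))
    obtain ⟨z, hz⟩ := (hU.nondegenerate _ hv).1
    have h1 := hno (z + v)
    have h1' := hno (k • z + v)
    simp only [mulVec_add, mulVec_smul, add_left hU, add_right hU, smul_left hU, smul_right hU, hno z, hno v,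
      mul_zero, add_zero, zero_add] at h1 h1'
    exact hz ((mul_eq_zero.1 (show (k - σ k) * f z (N *ᵥ (N *ᵥ v)) = 0 by
      linear_combination h1' - σ k * h1)).resolve_left (sub_ne_zero.2 (Ne.symm hk)))
  have q1 : f v (N *ᵥ (N *ᵥ v)) + f (N *ᵥ v) (N *ᵥ v) = 0 := by
    have h := E v (N *ᵥ v)
    rw [perp v v] at h
    linear_combination h
  have q2 := mem_uiso.1 hy v (N *ᵥ v)
  simp only [hy', hN3, smul_zero, add_zero, add_left hU, add_right hU, smul_left hU, smul_right hU, perp,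
    eq_zero_symm hU (perp v v)] at q2
  have q3 : (σ a - a) * f v (N *ᵥ (N *ᵥ v)) = 0 := by linear_combination q2 - a * q1
  exact sub_eq_zero.1 ((mul_eq_zero.1 q3).resolve_right hv)

end Cfsg.Agent.MaxCl.SU3.C7
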